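import Cfsg.Agent.Lib.Fusion.Stable.Diag

/-!
Every fusion system is realised in a finite group of permutations of a biset.
-/

set_option autoImplicit false
set_option linter.unusedSectionVars false

universe u v

namespace CfsgLib.Marks

/-- A set with the action pulled back along a homomorphism. -/
def Pulled {G H : Type*} [Group G] [Group H] (X : Type v) [MulAction G X] (_f : H →* G) : Type v := X

instance {G H : Type*} [Group G] [Group H] (X : Type v) [MulAction G X] (f : H →* G) :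
    MulAction H (Pulled X f) := MulAction.compHom X f

instance {G H : Type*} [Group G] [Group H] (X : Type v) [MulAction G X] [Finite X] (f : H →* G) :
    Finite (Pulled X f) := inferInstanceAs (Finite X)

theorem mark_pulled {G H : Type*} [Group G] [Group H] (X : Type v) [MulAction G X] (f : H →* G)
    (D : Subgroup H) : mark (Pulled X f) D = mark X (D.map f) := by
  refine Nat.card_congr ((Equiv.refl X).subtypeEquiv fun x => ⟨?_, fun h d hd => h _ ⟨d, hd, rfl⟩⟩)
  rintro h _ ⟨d, hd, rfl⟩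
  exact h d hd

end CfsgLib.Marks

namespace Cfsg.FusionSystem

open CfsgLib.Marks

variable {Ω : Type u} [Group Ω] {S : Subgroup Ω} {F : FusionSystem S} [Finite S]

/-- Restricting a left stable orbit sum along a map of the system gives an isomorphic biset. -/
theorem exists_twist_of_stable {c : Subgroup (S × S) → ℕ} (hc : ∀ K, c K ≠ 0 → F.Diag K)
    (hst : StableFrom F.Twisted {D | F.Diag D} c 0) {P : Subgroup Ω} {φ : P →* Ω} (hφ : φ ∈ F.Hom P) :
    ∃ e : Orbits c ≃ Orbits c, ∀ (u : P) (t : S) (x : Orbits c),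
      e (((⟨(u : Ω), F.source_le hφ u.2⟩, t) : S × S) • x) =
        (((⟨φ u, F.apply_mem hφ u⟩, t) : S × S) • e x) := by
  let f₁ : P × S →* S × S := MonoidHom.prodMap (Subgroup.inclusion (F.source_le hφ)) (MonoidHom.id S)
  let f₂ : P × S →* S × S := MonoidHom.prodMap (φ.codRestrict S (F.apply_mem hφ)) (MonoidHom.id S)
  haveI : Finite P := finite_of_le (F.source_le hφ)
  obtain ⟨e, he⟩ := exists_equiv_of_marks (H := P × S) (X := Pulled (Orbits c) f₁) (Y := Pulled (Orbits c) f₂)
    fun D => by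
      rw [mark_pulled, mark_pulled]
      have hrel : F.Twisted (D.map f₁) (D.map f₂) := by
        refine ⟨P, φ, hφ, 1, ?_, fun z' => ⟨?_, ?_⟩⟩
        · rintro _ ⟨d, -, rfl⟩
          exact d.1.2
        · rintro ⟨d, hd, rfl⟩
          exact ⟨f₁ d, ⟨d, hd, rfl⟩, rfl, by simp [f₁, f₂]⟩
        · rintro ⟨_, ⟨d, hd, rfl⟩, h1, h2⟩
          exact ⟨d, hd, Prod.ext (Subtype.ext h1.symm) (by rw [h2]; simp [f₁, f₂])⟩
      by_cases hd : F.Diag (D.map f₁)
      · exact hst _ _ hrel hd (Nat.zero_le _)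
      · have hd' : ¬ F.Diag (D.map f₂) := fun h => hd (h.twisted (twisted_equivalence.symm hrel))
        rw [of_not_not fun h => hd (diag_of_fix hc h), of_not_not fun h => hd' (diag_of_fix hc h)]
  exact ⟨e, fun u t x => he (u, t) x⟩

/-- **Park's theorem.** Every fusion system is realised in a finite group. -/
theorem exists_realizedBy_finite (F : FusionSystem S) :
    ∃ (G : Type u) (_ : Group G) (_ : Finite G) (ι : S →* G), F.IsRealizedBy ι := by
  obtain ⟨c, hc, hc0, hst⟩ := exists_left_stable F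
  let G : Subgroup (Equiv.Perm (Orbits c)) :=
    { carrier := {σ | ∀ (t : S) (x : Orbits c), σ (((1, t) : S × S) • x) = ((1, t) : S × S) • σ x}
      one_mem' := fun t x => rfl
      mul_mem' := fun {a b} ha hb t x => by
        show a (b _) = _
        rw [hb, ha]
        rfl
      inv_mem' := fun {a} ha t x => by
        apply a.injective
        rw [ha, Equiv.Perm.inv_def, Equiv.apply_symm_apply, Equiv.apply_symm_apply] }
  let L : S →* G := (MulAction.toPermHom (S × S) (Orbits c) |>.comp (MonoidHom.inl S S)).codRestrict G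
    fun u t x => by
      show ((u, (1 : S)) : S × S) • ((1, t) : S × S) • x = ((1, t) : S × S) • ((u, (1 : S)) : S × S) • x
      rw [← mul_smul, ← mul_smul, Prod.mk_mul_mk, Prod.mk_mul_mk, one_mul, mul_one, one_mul, mul_one]
  let x₀ : Orbits c := Orbits.mk (idDiag S) ⟨0, Nat.pos_of_ne_zero hc0⟩ (QuotientGroup.mk 1)
  have hx₀ : ∀ s : S, ((s, s) : S × S) • x₀ = x₀ := fun s => by
    show Orbits.mk _ _ (((s, s) : S × S) • (QuotientGroup.mk 1 : (S × S) ⧸ idDiag S)) = _
    congr 1
    exact QuotientGroup.eq.mpr ⟨s⁻¹, by simp⟩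
  refine ⟨G, inferInstance, inferInstance, L, ?_, fun P hP φ hφ => ⟨fun hm => ?_, ?_⟩⟩
  · intro a b h
    have h1 : ((a, (1 : S)) : S × S) • x₀ = ((b, (1 : S)) : S × S) • x₀ :=
      congrArg (fun σ : G => (σ : Equiv.Perm (Orbits c)) x₀) h
    have h2 : ((a, (1 : S)) : S × S) • (QuotientGroup.mk 1 : (S × S) ⧸ idDiag S) =
        ((b, (1 : S)) : S × S) • (QuotientGroup.mk 1 : (S × S) ⧸ idDiag S) :=
      (Prod.ext_iff.mp (eq_of_heq (Sigma.mk.inj_iff.mp h1).2)).2
    obtain ⟨s, hs⟩ := QuotientGroup.eq.mp h2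
    have hs2 : s = 1 := by simpa using congrArg Prod.snd hs
    have hs1 : s = a⁻¹ * b := by simpa using congrArg Prod.fst hs
    exact inv_mul_eq_one.mp (hs1 ▸ hs2)
  · obtain ⟨e, he⟩ := exists_twist_of_stable hc hst hm
    have heG : e ∈ G := fun t x => by
      have h := he 1 t x
      rw [show (⟨((1 : P) : Ω), F.source_le hm (1 : P).2⟩ : S) = 1 from rfl,
        show (⟨φ 1, F.apply_mem hm 1⟩ : S) = 1 from Subtype.ext (map_one φ)] at h
      exact h
    refine ⟨⟨e, heG⟩, fun u => ?_⟩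
    rw [eq_mul_inv_iff_mul_eq]
    refine Subtype.ext (Equiv.ext fun x => ?_)
    exact (he u 1 x).symm
  · rintro ⟨g, hg⟩
    obtain ⟨y, hy⟩ : ∃ y, y = (g : Equiv.Perm (Orbits c)) x₀ := ⟨_, rfl⟩
    have hfix : ∀ u : P, (((⟨φ u, hφ u⟩ : S), (⟨u, hP u.2⟩ : S)) : S × S) • y = y := by
      intro u
      have h1 := hg u
      rw [eq_mul_inv_iff_mul_eq] at h1
      have h2 := congrArg (fun σ : G => (σ : Equiv.Perm (Orbits c))
        (((1 : S), (⟨u, hP u.2⟩ : S)) • x₀)) h1
      have h3 : ((⟨φ u, hφ u⟩ : S), (1 : S)) • (g : Equiv.Perm (Orbits c))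
          (((1 : S), (⟨u, hP u.2⟩ : S)) • x₀) = (g : Equiv.Perm (Orbits c))
          (((⟨u, hP u.2⟩ : S), (1 : S)) • ((1 : S), (⟨u, hP u.2⟩ : S)) • x₀) := h2
      rw [g.2, ← mul_smul, ← mul_smul, Prod.mk_mul_mk, Prod.mk_mul_mk] at h3
      simp only [mul_one, one_mul] at h3
      rw [hx₀] at h3
      rw [hy]
      exact h3
    let D : Subgroup (S × S) := ((φ.codRestrict S hφ).prod (Subgroup.inclusion hP)).range
    have hm : mark (Orbits c) D ≠ 0 := by
      refine Nat.pos_iff_ne_zero.mp (Nat.card_pos_iff.mpr ⟨⟨⟨y, ?_⟩⟩, inferInstance⟩)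
      rintro _ ⟨u, rfl⟩
      exact hfix u
    obtain ⟨P', φ', hφ', hD⟩ := diag_of_fix hc hm
    have hPP' : P ≤ P' := fun x hx => by
      obtain ⟨v, -, h2⟩ := (hD _).mp ⟨⟨x, hx⟩, rfl⟩
      rw [show x = (v : Ω) from h2]
      exact v.2
    refine F.mem_of_apply_eq (F.restrict_mem hφ' hPP') fun u => ?_
    obtain ⟨v, h1, h2⟩ := (hD _).mp ⟨u, rfl⟩
    exact h1.trans (congrArg φ' (Subtype.ext h2.symm))

end Cfsg.FusionSystem
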