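import Cfsg.Agent.Lib.Fusion.Stable.Marks
import Mathlib.Algebra.BigOperators.Finprod
import Mathlib.GroupTheory.Sylow
import Mathlib.GroupTheory.QuotientGroup.Basic
import Mathlib.Data.Fintype.Order

/-!
Completing an orbit sum so that its fixed-point counts are constant on classes of subgroups.
-/

set_option autoImplicit false

namespace CfsgLib.Marks

universe u

variable {G : Type u} [Group G]

/-- An orbit sum with multiplicities. -/
def Orbits (c : Subgroup G → ℕ) : Type u := Σ K : Subgroup G, Fin (c K) × (G ⧸ K)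

instance (c : Subgroup G → ℕ) : MulAction G (Orbits c) where
  smul g z := ⟨z.1, z.2.1, g • z.2.2⟩
  one_smul z := by
    obtain ⟨K, i, x⟩ := z
    show (⟨K, i, (1 : G) • x⟩ : Orbits c) = ⟨K, i, x⟩
    rw [one_smul]
  mul_smul g h z := by
    obtain ⟨K, i, x⟩ := z
    show (⟨K, i, (g * h) • x⟩ : Orbits c) = ⟨K, i, g • h • x⟩
    rw [mul_smul]

/-- The point of an orbit sum. -/
def Orbits.mk {c : Subgroup G → ℕ} (K : Subgroup G) (i : Fin (c K)) (x : G ⧸ K) : Orbits c := ⟨K, i, x⟩

theorem Orbits.smul_mk {c : Subgroup G → ℕ} (g : G) (K : Subgroup G) (i : Fin (c K)) (x : G ⧸ K) :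
    g • Orbits.mk K i x = Orbits.mk K i (g • x) := rfl

variable [Finite G]

instance (c : Subgroup G → ℕ) : Finite (Orbits c) :=
  inferInstanceAs (Finite (Σ K : Subgroup G, Fin (c K) × (G ⧸ K)))

theorem mark_orbits (c : Subgroup G → ℕ) (D : Subgroup G) :
    mark (Orbits c) D = ∑ᶠ K : Subgroup G, c K * mark (G ⧸ K) D := by
  classical
  haveI := Fintype.ofFinite (Subgroup G)
  let e : {z : Orbits c // ∀ d ∈ D, d • z = z} ≃
      Σ K : Subgroup G, Fin (c K) × {x : G ⧸ K // ∀ d ∈ D, d • x = x} :=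
    { toFun := fun z => ⟨z.1.1, z.1.2.1, z.1.2.2, fun d hd => by
        have h := z.2 d hd
        obtain ⟨⟨K, i, x⟩, hz⟩ := z
        change Orbits.mk K i (d • x) = Orbits.mk K i x at h
        exact (Prod.ext_iff.mp (eq_of_heq (Sigma.mk.inj_iff.mp h).2)).2⟩
      invFun := fun z => ⟨Orbits.mk z.1 z.2.1 z.2.2.1, fun d hd => by
        rw [Orbits.smul_mk, z.2.2.2 d hd]⟩
      left_inv := fun z => rfl
      right_inv := fun z => rfl }
  rw [mark, Nat.card_congr e, Nat.card_sigma, finsum_eq_sum_of_fintype]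
  refine Finset.sum_congr rfl fun K _ => ?_
  rw [Nat.card_prod, Nat.card_fin]
  rfl

theorem mark_ne_zero {K D : Subgroup G} (h : mark (G ⧸ K) D ≠ 0) : ∃ g : G, ∀ d ∈ D, g⁻¹ * d * g ∈ K := by
  obtain ⟨⟨⟨x, hx⟩⟩, -⟩ := Nat.card_pos_iff.mp (Nat.pos_of_ne_zero h)
  induction x using QuotientGroup.induction_on with
  | H g =>
    refine ⟨g, fun d hd => ?_⟩
    have h1 : ((d * g : G) : G ⧸ K) = (g : G ⧸ K) := hx d hd
    rw [QuotientGroup.eq] at h1
    simpa [mul_assoc] using K.inv_mem h1

theorem card_le_of_mark_ne_zero {K D : Subgroup G} (h : mark (G ⧸ K) D ≠ 0) : Nat.card D ≤ Nat.card K := by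
  obtain ⟨g, hg⟩ := mark_ne_zero h
  refine Nat.card_le_card_of_injective (fun d : D => (⟨g⁻¹ * d * g, hg d d.2⟩ : K)) fun a b e => ?_
  exact Subtype.ext (mul_left_cancel (mul_right_cancel (congrArg Subtype.val e)))

theorem eq_conj_of_mark_ne_zero {K D : Subgroup G} (h : mark (G ⧸ K) D ≠ 0) (hc : Nat.card K ≤ Nat.card D) :
    ∃ g : G, D.map (MulAut.conj g).toMonoidHom = K := by
  obtain ⟨g, hg⟩ := mark_ne_zero h
  refine ⟨g⁻¹, Subgroup.eq_of_le_of_card_ge ?_ ?_⟩
  · rintro _ ⟨d, hd, rfl⟩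
    simpa using hg d hd
  · rw [Subgroup.card_map_of_injective (MulAut.conj g⁻¹).injective]
    exact hc

theorem mark_conj {X : Type*} [MulAction G X] (g : G) (D : Subgroup G) :
    mark X (D.map (MulAut.conj g).toMonoidHom) = mark X D := by
  refine Nat.card_congr ((MulAction.toPerm g⁻¹).subtypeEquiv fun x => ⟨fun h d hd => ?_, ?_⟩)
  · have h1 := h _ ⟨d, hd, rfl⟩
    show d • g⁻¹ • x = g⁻¹ • x
    have h2 : (g * d * g⁻¹) • x = x := h1
    rw [mul_smul, mul_smul] at h2
    exact eq_inv_smul_iff.mpr h2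
  · rintro h _ ⟨d, hd, rfl⟩
    have h1 : d • g⁻¹ • x = g⁻¹ • x := h d hd
    show (g * d * g⁻¹) • x = x
    rw [mul_smul, mul_smul, h1, smul_inv_smul]

theorem mark_self (D : Subgroup G) :
    mark (G ⧸ D) D = D.relIndex (Subgroup.normalizer (D : Set G)) := by
  rw [Subgroup.relIndex, Subgroup.index]
  set N := Subgroup.normalizer (D : Set G)
  let f : N ⧸ D.subgroupOf N → {x : G ⧸ D // ∀ d ∈ D, d • x = x} :=
    fun q => Quotient.liftOn' q (fun n : N => ⟨(QuotientGroup.mk (n : G) : G ⧸ D), fun d hd => QuotientGroup.eq.mpr (by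
      have h := (Subgroup.mem_normalizer_iff''.mp n.2 (d⁻¹)).mp (D.inv_mem hd)
      simpa [mul_assoc] using h)⟩)
      fun a b hab => Subtype.ext (QuotientGroup.eq.mpr (QuotientGroup.leftRel_apply.mp hab :))
  refine (Nat.card_congr (Equiv.ofBijective f ⟨?_, ?_⟩)).symm
  · intro a b
    induction a using QuotientGroup.induction_on with
    | H a =>
      induction b using QuotientGroup.induction_on with
      | H b =>
        intro h
        exact QuotientGroup.eq.mpr (Subgroup.mem_subgroupOf.mpr (by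
          simpa using QuotientGroup.eq.mp (congrArg Subtype.val h)))
  · rintro ⟨x, hx⟩
    induction x using QuotientGroup.induction_on with
    | H g =>
      have hg : g⁻¹ ∈ N := by
        refine mem_normalizer_of_conj_le fun d hd => ?_
        have h := QuotientGroup.eq.mp (hx d hd)
        simpa [mul_assoc] using D.inv_mem h
      exact ⟨QuotientGroup.mk ⟨g, by simpa using N.inv_mem hg⟩, rfl⟩
where
  /-- An element conjugating a finite subgroup into itself normalises it. -/
  mem_normalizer_of_conj_le {a : G} (h : ∀ d ∈ D, a * d * a⁻¹ ∈ D) : a ∈ Subgroup.normalizer (D : Set G) := by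
    refine Subgroup.mem_normalizer_iff.mpr fun x => ⟨fun hx => h x hx, fun hx => ?_⟩
    obtain ⟨⟨y, hy⟩, e⟩ := Finite.surjective_of_injective (f := fun d : D => (⟨a * d * a⁻¹, h d d.2⟩ : D))
      (fun p q e => Subtype.ext (mul_left_cancel (mul_right_cancel (congrArg Subtype.val e)))) ⟨_, hx⟩
    rw [← mul_left_cancel (mul_right_cancel (congrArg Subtype.val e))]
    exact hy

theorem mark_self_pos (D : Subgroup G) : 0 < mark (G ⧸ D) D := by
  rw [mark_self]
  rw [Subgroup.relIndex]
  exact Nat.pos_of_ne_zero Subgroup.index_ne_zero_of_finite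

theorem mark_self_dvd (D : Subgroup G) : mark (G ⧸ D) D ∣ Nat.card G := by
  rw [mark_self]
  exact (Subgroup.relIndex_dvd_index_of_le Subgroup.le_normalizer).trans D.index_dvd_card

theorem mark_orbit_conj (K D : Subgroup G) (g : G) :
    mark (G ⧸ K.map (MulAut.conj g).toMonoidHom) D = mark (G ⧸ K) D := by
  set K' := K.map (MulAut.conj g).toMonoidHom
  let f : G ⧸ K' → G ⧸ K := Quotient.map' (fun x => x * g) fun a b hab => by
    rw [QuotientGroup.leftRel_apply] at hab ⊢
    obtain ⟨k, hk, e⟩ := hab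
    have e' : g * k * g⁻¹ = a⁻¹ * b := e
    rw [show (a * g)⁻¹ * (b * g) = g⁻¹ * (a⁻¹ * b) * g by group, ← e']
    simpa [mul_assoc] using hk
  let f' : G ⧸ K → G ⧸ K' := Quotient.map' (fun x => x * g⁻¹) fun a b hab => by
    rw [QuotientGroup.leftRel_apply] at hab ⊢
    exact ⟨a⁻¹ * b, hab, by simp [mul_assoc]⟩
  let e : G ⧸ K' ≃ G ⧸ K :=
    { toFun := f
      invFun := f'
      left_inv := fun x => by
        induction x using QuotientGroup.induction_on with
        | H a =>
          show (QuotientGroup.mk (a * g * g⁻¹) : G ⧸ K') = _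
          rw [mul_inv_cancel_right]
      right_inv := fun x => by
        induction x using QuotientGroup.induction_on with
        | H a =>
          show (QuotientGroup.mk (a * g⁻¹ * g) : G ⧸ K) = _
          rw [inv_mul_cancel_right] }
  refine mark_congr e (fun h x => ?_) D
  induction x using QuotientGroup.induction_on with
  | H a => exact congrArg QuotientGroup.mk (mul_assoc h a g)

variable (R : Subgroup G → Subgroup G → Prop)

/-- Fixed-point counts are constant on the classes from the order `n` on. -/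
def StableFrom (ℋ : Set (Subgroup G)) (c : Subgroup G → ℕ) (n : ℕ) : Prop :=
  ∀ D D', R D D' → D ∈ ℋ → n ≤ Nat.card D → mark (Orbits c) D = mark (Orbits c) D'

/-- One step of the completion. -/
theorem exists_step (ℋ : Set (Subgroup G)) (hR : Equivalence R) (hRc : ∀ D D', R D D' → Nat.card D = Nat.card D')
    (hRconj : ∀ D g, D ∈ ℋ → R D (D.map (MulAut.conj g).toMonoidHom))
    (hRℋ : ∀ D D', R D D' → D ∈ ℋ → D' ∈ ℋ)
    (c : Subgroup G → ℕ) (n : ℕ) (hc : StableFrom R ℋ c (n + 1))
    (hT : ∀ D ∈ ℋ, Nat.card D = n → ∃ T, ∀ D', R D D' →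
      mark (Orbits c) D' ≤ T ∧ mark (G ⧸ D') D' ∣ T - mark (Orbits c) D') :
    ∃ c', (∀ K, c K ≤ c' K) ∧ (∀ K, (K ∉ ℋ ∨ Nat.card K ≠ n) → c' K = c K) ∧ StableFrom R ℋ c' n := by
  classical
  haveI := Fintype.ofFinite (Subgroup G)
  let sR : Setoid (Subgroup G) := ⟨R, hR⟩
  let sC : Setoid (Subgroup G) := ⟨fun D D' => ∃ g, D.map (MulAut.conj g).toMonoidHom = D', ⟨fun D => ⟨1, by
      ext x; simp⟩, fun {D D'} ⟨g, hg⟩ => ⟨g⁻¹, by
      rw [← hg, Subgroup.map_map]
      ext x; simp [mul_assoc]⟩, fun {D D' D''} ⟨g, hg⟩ ⟨h, hh⟩ => ⟨h * g, by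
      rw [← hh, ← hg, Subgroup.map_map]
      congr 1
      ext x; simp [mul_assoc]⟩⟩⟩
  have hT' : ∀ D, ∃ T, D ∈ ℋ → Nat.card D = n → ∀ D', R D D' →
      mark (Orbits c) D' ≤ T ∧ mark (G ⧸ D') D' ∣ T - mark (Orbits c) D' := fun D => by
    by_cases h : D ∈ ℋ ∧ Nat.card D = n
    · obtain ⟨T, hT⟩ := hT D h.1 h.2
      exact ⟨T, fun _ _ => hT⟩
    · exact ⟨0, fun h1 h2 => absurd ⟨h1, h2⟩ h⟩
  choose T hTspec using hT'
  let rR : Subgroup G → Subgroup G := fun D => (Quotient.mk sR D).out
  let rC : Subgroup G → Subgroup G := fun D => (Quotient.mk sC D).out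
  have hrR : ∀ D, R (rR D) D := fun D => Quotient.exact (Quotient.out_eq (Quotient.mk sR D))
  have hrR' : ∀ D D', R D D' → rR D = rR D' := fun D D' h => by
    show (Quotient.mk sR D).out = (Quotient.mk sR D').out
    rw [Quotient.sound (s := sR) h]
  have hrC : ∀ D, ∃ g, (rC D).map (MulAut.conj g).toMonoidHom = D := fun D =>
    Quotient.exact (Quotient.out_eq (Quotient.mk sC D))
  have hrC' : ∀ D D' g, D.map (MulAut.conj g).toMonoidHom = D' → rC D = rC D' := fun D D' g h => by
    show (Quotient.mk sC D).out = (Quotient.mk sC D').out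
    rw [Quotient.sound (s := sC) ⟨g, h⟩]
  let d : Subgroup G → ℕ := fun K => if K ∈ ℋ ∧ Nat.card K = n ∧ rC K = K then
    (T (rR K) - mark (Orbits c) K) / mark (G ⧸ K) K else 0
  refine ⟨fun K => c K + d K, fun K => Nat.le_add_right _ _, fun K hK => ?_, ?_⟩
  · show c K + d K = c K
    simp only [d]
    rw [if_neg]
    · rfl
    · rintro ⟨h1, h2, -⟩
      exact hK.elim (fun h => h h1) fun h => h h2
  have hadd : ∀ D : Subgroup G, mark (Orbits fun K => c K + d K) D =
      mark (Orbits c) D + ∑ K : Subgroup G, d K * mark (G ⧸ K) D := by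
    intro D
    rw [mark_orbits, mark_orbits, finsum_eq_sum_of_fintype, finsum_eq_sum_of_fintype, ← Finset.sum_add_distrib]
    exact Finset.sum_congr rfl fun K _ => add_mul _ _ _
  intro D D' hDD' hD hn
  have hD' := hRℋ D D' hDD' hD
  rcases hn.lt_or_eq with hlt | heq
  · have hz : ∀ E : Subgroup G, n < Nat.card E → ∑ K : Subgroup G, d K * mark (G ⧸ K) E = 0 := by
      intro E hE
      refine Finset.sum_eq_zero fun K _ => ?_
      by_contra hne
      simp only [mul_eq_zero, not_or] at hne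
      have := card_le_of_mark_ne_zero hne.2
      obtain ⟨-, hKn, -⟩ := (ite_ne_right_iff.mp hne.1).1
      omega
    rw [hadd, hadd, hz D hlt, hz D' (hRc D D' hDD' ▸ hlt), hc D D' hDD' hD hlt]
  · have hval : ∀ E : Subgroup G, E ∈ ℋ → Nat.card E = n → mark (Orbits fun K => c K + d K) E = T (rR E) := by
      intro E hE hEn
      rw [hadd, Finset.sum_eq_single (rC E)]
      · obtain ⟨g, hg⟩ := hrC E
        have hrel : R (rC E) E := by
          refine hR.symm ?_
          have := hRconj E g⁻¹ hE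
          rwa [show E.map (MulAut.conj g⁻¹).toMonoidHom = rC E by
            conv_lhs => rw [← hg, Subgroup.map_map]
            ext x; simp [mul_assoc]] at this
        have h1 : rC E ∈ ℋ := hRℋ _ _ (hR.symm hrel) hE
        have h2 : Nat.card (rC E) = n := (hRc _ _ hrel).trans hEn
        have h3 : rC (rC E) = rC E := (hrC' _ _ g hg)
        have hrRE : R (rR E) (rC E) := hR.trans (hrR E) (hR.symm hrel)
        obtain ⟨hle, hdvd⟩ := hTspec (rR E) (hRℋ _ _ (hR.symm (hrR E)) hE)
          ((hRc _ _ (hrR E)).trans hEn) (rC E) hrRE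
        have hm1 : mark (Orbits c) E = mark (Orbits c) (rC E) := by
          conv_lhs => rw [← hg]
          exact mark_conj g _
        have hm2 : mark (G ⧸ rC E) E = mark (G ⧸ rC E) (rC E) := by
          conv_lhs => arg 2; rw [← hg]
          exact mark_conj g _
        have hd : d (rC E) = (T (rR E) - mark (Orbits c) (rC E)) / mark (G ⧸ rC E) (rC E) := by
          simp only [d]
          rw [if_pos ⟨h1, h2, h3⟩, hrR' _ _ hrel]
        rw [hd, hm1, hm2, Nat.div_mul_cancel hdvd]
        omega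
      · intro K _ hK
        by_contra hne
        simp only [mul_eq_zero, not_or] at hne
        obtain ⟨-, hKn, hKr⟩ := (ite_ne_right_iff.mp hne.1).1
        obtain ⟨g, hg⟩ := eq_conj_of_mark_ne_zero hne.2 (le_of_eq (hKn.trans hEn.symm))
        exact hK (by rw [hrC' E K g hg, hKr])
      · intro h
        exact absurd (Finset.mem_univ _) h
    rw [hval D hD heq.symm, hval D' hD' ((hRc D D' hDD').symm.trans heq.symm), hrR' D D' hDD']

end CfsgLib.Marks
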