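import Cfsg.Agent.Lib.Fusion.Stable.Complete
import Cfsg.Agent.Lib.Fusion.Basic

/-!
Twisted diagonal subgroups of a fusion system, and left stable bisets for an arbitrary fusion system.
-/

set_option autoImplicit false
set_option linter.unusedSectionVars false

universe u

namespace Cfsg.FusionSystem

open CfsgLib.Marks

variable {Ω : Type u} [Group Ω] {S : Subgroup Ω} {F : FusionSystem S}

/-- The subgroup is a twisted diagonal of a map of the system. -/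
def Diag (F : FusionSystem S) (D : Subgroup (S × S)) : Prop :=
  ∃ (P : Subgroup Ω) (φ : P →* Ω), φ ∈ F.Hom P ∧
    ∀ z : S × S, z ∈ D ↔ ∃ u : P, (z.1 : Ω) = φ u ∧ (z.2 : Ω) = u

theorem Diag.mono {D D' : Subgroup (S × S)} (h : F.Diag D) (hle : D' ≤ D) : F.Diag D' := by
  obtain ⟨P, φ, hφ, hD⟩ := h
  let P' : Subgroup Ω := (D'.map (MonoidHom.snd S S)).map S.subtype
  have hmem : ∀ x, x ∈ P' ↔ ∃ z ∈ D', (z.2 : Ω) = x := by
    intro x
    constructor
    · rintro ⟨s, ⟨z, hz, rfl⟩, rfl⟩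
      exact ⟨z, hz, rfl⟩
    · rintro ⟨z, hz, rfl⟩
      exact ⟨z.2, ⟨z, hz, rfl⟩, rfl⟩
  have hP' : P' ≤ P := by
    intro x hx
    obtain ⟨z, hz, rfl⟩ := (hmem x).mp hx
    obtain ⟨u, -, h2⟩ := (hD z).mp (hle hz)
    rw [h2]
    exact u.2
  refine ⟨P', φ.comp (Subgroup.inclusion hP'), F.restrict_mem hφ hP', fun z => ⟨fun hz => ?_, ?_⟩⟩
  · obtain ⟨u, h1, h2⟩ := (hD z).mp (hle hz)
    refine ⟨⟨z.2, (hmem _).mpr ⟨z, hz, rfl⟩⟩, ?_, rfl⟩
    show (z.1 : Ω) = φ ⟨(z.2 : Ω), _⟩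
    rw [h1]
    exact congrArg φ (Subtype.ext h2.symm)
  · rintro ⟨⟨x, hx⟩, h1, h2⟩
    obtain ⟨w, hw, rfl⟩ := (hmem x).mp hx
    obtain ⟨v, h3, h4⟩ := (hD w).mp (hle hw)
    have e1 : (z.1 : Ω) = w.1 := by
      rw [h1, h3]
      exact congrArg φ (Subtype.ext h4)
    rwa [show z = w from Prod.ext (Subtype.ext e1) (Subtype.ext h2)]

/-- Left-twisting by maps of the system and right-conjugating by `S`. -/
def Twisted (F : FusionSystem S) (D D' : Subgroup (S × S)) : Prop :=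
  ∃ (P : Subgroup Ω) (α : P →* Ω) (_ : α ∈ F.Hom P) (t : S) (hP : ∀ z ∈ D, (z.1 : Ω) ∈ P),
    ∀ z' : S × S, z' ∈ D' ↔ ∃ (z : S × S) (hz : z ∈ D),
      (z'.1 : Ω) = α ⟨z.1, hP z hz⟩ ∧ z'.2 = t * z.2 * t⁻¹

theorem twisted_equivalence : Equivalence F.Twisted where
  refl D := by
    refine ⟨S, S.subtype, F.id_mem le_rfl, 1, fun z _ => z.1.2, fun z' => ⟨fun h => ⟨z', h, rfl, by simp⟩, ?_⟩⟩
    rintro ⟨z, hz, h1, h2⟩
    rwa [show z' = z from Prod.ext (Subtype.ext h1) (by simpa using h2)]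
  symm := by
    rintro D D' ⟨P, α, hα, t, hP, hD'⟩
    obtain ⟨β, hβ, -, hβl, -⟩ := F.exists_inv hα rfl
    have hP' : ∀ z' ∈ D', (z'.1 : Ω) ∈ α.range := by
      intro z' hz'
      obtain ⟨z, hz, h1, -⟩ := (hD' z').mp hz'
      exact ⟨_, h1.symm⟩
    refine ⟨α.range, β, hβ, t⁻¹, hP', fun z => ⟨fun hz => ?_, ?_⟩⟩
    · have hmem : ((⟨α ⟨z.1, hP z hz⟩, F.apply_mem hα _⟩ : S), t * z.2 * t⁻¹) ∈ D' :=
        (hD' _).mpr ⟨z, hz, rfl, rfl⟩
      refine ⟨_, hmem, ?_, by simp [mul_assoc]⟩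
      exact (hβl ⟨z.1, hP z hz⟩ _).symm
    · rintro ⟨z', hz', h1, h2⟩
      obtain ⟨w, hw, h3, h4⟩ := (hD' z').mp hz'
      have e1 : (z.1 : Ω) = w.1 := by
        rw [h1, show (⟨(z'.1 : Ω), hP' z' hz'⟩ : α.range) = ⟨α ⟨w.1, hP w hw⟩, _, rfl⟩ from Subtype.ext h3]
        exact hβl ⟨w.1, hP w hw⟩ _
      have e2 : z.2 = w.2 := by rw [h2, h4]; group
      rwa [show z = w from Prod.ext (Subtype.ext e1) e2]
  trans := by
    rintro D D' D'' ⟨P, α, hα, t, hP, hD'⟩ ⟨P', α', hα', t', hP', hD''⟩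
    let Q : Subgroup Ω := (P'.comap α).map P.subtype
    have hQP : Q ≤ P := Subgroup.map_subtype_le _
    have hQmem : ∀ x : Q, α ⟨x, hQP x.2⟩ ∈ P' := by
      rintro ⟨_, y, hy, rfl⟩
      exact hy
    have hmem : ∀ z ∈ D, (z.1 : Ω) ∈ Q := by
      intro z hz
      have hzD' : ((⟨α ⟨z.1, hP z hz⟩, F.apply_mem hα _⟩ : S), t * z.2 * t⁻¹) ∈ D' :=
        (hD' _).mpr ⟨z, hz, rfl, rfl⟩
      exact ⟨⟨z.1, hP z hz⟩, hP' _ hzD', rfl⟩
    refine ⟨Q, _, F.comp_mem (F.restrict_mem hα hQP) hα' hQmem, t' * t, hmem, fun z'' => ⟨fun hz'' => ?_, ?_⟩⟩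
    · obtain ⟨z', hz', h1, h2⟩ := (hD'' z'').mp hz''
      obtain ⟨z, hz, h3, h4⟩ := (hD' z').mp hz'
      refine ⟨z, hz, ?_, by rw [h2, h4]; group⟩
      rw [h1]
      exact congrArg α' (Subtype.ext h3)
    · rintro ⟨z, hz, h1, h2⟩
      refine (hD'' z'').mpr ⟨_, (hD' ((⟨α ⟨z.1, hP z hz⟩, F.apply_mem hα _⟩ : S), t * z.2 * t⁻¹)).mpr
        ⟨z, hz, rfl, rfl⟩, ?_, by rw [h2]; group⟩
      rw [h1]
      rfl

theorem Twisted.card_eq [Finite S] {D D' : Subgroup (S × S)} (h : F.Twisted D D') :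
    Nat.card D = Nat.card D' := by
  obtain ⟨P, α, hα, t, hP, hD'⟩ := h
  refine Nat.card_congr (Equiv.ofBijective
    (fun z : D => (⟨((⟨α ⟨z.1.1, hP z z.2⟩, F.apply_mem hα _⟩ : S), t * z.1.2 * t⁻¹),
      (hD' _).mpr ⟨z, z.2, rfl, rfl⟩⟩ : D')) ⟨?_, ?_⟩)
  · intro a b e
    have e1 := congrArg (fun z : D' => z.1.1.1) e
    have e2 := congrArg (fun z : D' => z.1.2) e
    refine Subtype.ext (Prod.ext (Subtype.ext ?_) (mul_left_cancel (mul_right_cancel e2)))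
    exact congrArg (fun w : P => (w : Ω)) (F.injective_of_mem hα e1)
  · rintro ⟨z', hz'⟩
    obtain ⟨z, hz, h1, h2⟩ := (hD' z').mp hz'
    exact ⟨⟨z, hz⟩, Subtype.ext (Prod.ext (Subtype.ext h1.symm) h2.symm)⟩

theorem Diag.twisted {D D' : Subgroup (S × S)} (h : F.Diag D) (ht : F.Twisted D D') : F.Diag D' := by
  obtain ⟨P, φ, hφ, hD⟩ := h
  obtain ⟨Q, α, hα, t, hQ, hD'⟩ := ht
  have hPS := F.source_le hφ
  have hin : ∀ u : P, ((⟨φ u, F.apply_mem hφ u⟩, ⟨u, hPS u.2⟩) : S × S) ∈ D := fun u =>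
    (hD _).mpr ⟨u, rfl, rfl⟩
  have hφQ : ∀ u : P, φ u ∈ Q := fun u => hQ _ (hin u)
  obtain ⟨χ, hχ, hχr, hχl⟩ : ∃ χ ∈ F.Hom (conjHom P (t : Ω)).range,
      (∀ y, χ y ∈ P) ∧ ∀ (u : P) (h : (t : Ω) * u * (t : Ω)⁻¹ ∈ (conjHom P (t : Ω)).range), χ ⟨_, h⟩ = u := by
    obtain ⟨χ, hχ, -, hχl, -⟩ := F.exists_inv (F.conj_mem hPS t.2) rfl
    refine ⟨χ, hχ, ?_, fun u h => hχl u _⟩
    rintro ⟨_, u, rfl⟩
    rw [show χ ⟨conjHom P (t : Ω) u, ⟨u, rfl⟩⟩ = (u : Ω) from hχl u _]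
    exact u.2
  refine ⟨(conjHom P (t : Ω)).range, _, F.comp_mem hχ (F.comp_mem hφ hα hφQ) hχr, fun z' => ⟨fun hz' => ?_, ?_⟩⟩
  · obtain ⟨z, hz, h1, h2⟩ := (hD' z').mp hz'
    obtain ⟨u, h3, h4⟩ := (hD z).mp hz
    refine ⟨⟨(t : Ω) * u * (t : Ω)⁻¹, u, rfl⟩, ?_, ?_⟩
    · rw [h1]
      refine congrArg α (Subtype.ext ?_)
      rw [show (z.1 : Ω) = φ u from h3]
      exact congrArg φ (Subtype.ext (hχl u _).symm)
    · rw [h2]
      show (t : Ω) * (z.2 : Ω) * (t : Ω)⁻¹ = _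
      rw [h4]
  · rintro ⟨⟨_, u, rfl⟩, h1, h2⟩
    refine (hD' z').mpr ⟨_, hin u, ?_, Subtype.ext h2⟩
    rw [h1]
    refine congrArg α (Subtype.ext ?_)
    exact congrArg φ (Subtype.ext (hχl u _))

theorem twisted_conj {D : Subgroup (S × S)} (g : S × S) :
    F.Twisted D (D.map (MulAut.conj g).toMonoidHom) := by
  refine ⟨S, conjHom S (g.1 : Ω), F.conj_mem le_rfl g.1.2, g.2, fun z _ => z.1.2, fun z' => ⟨?_, ?_⟩⟩
  · rintro ⟨z, hz, rfl⟩
    exact ⟨z, hz, rfl, rfl⟩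
  · rintro ⟨z, hz, h1, h2⟩
    exact ⟨z, hz, Prod.ext (Subtype.ext h1.symm) h2.symm⟩

theorem Diag.conj {D : Subgroup (S × S)} (h : F.Diag D) (g : S × S) :
    F.Diag (D.map (MulAut.conj g).toMonoidHom) := h.twisted (twisted_conj g)

/-- The identity diagonal. -/
def idDiag (S : Subgroup Ω) : Subgroup (S × S) := ((MonoidHom.id S).prod (MonoidHom.id S)).range

theorem diag_idDiag : F.Diag (idDiag S) := by
  refine ⟨S, S.subtype, F.id_mem le_rfl, fun z => ⟨?_, ?_⟩⟩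
  · rintro ⟨s, rfl⟩
    exact ⟨s, rfl, rfl⟩
  · rintro ⟨u, h1, h2⟩
    exact ⟨u, Prod.ext (Subtype.ext h1.symm) (Subtype.ext h2.symm)⟩

variable [Finite S]

/-- A subgroup fixing a point of an orbit sum over diagonals is a diagonal. -/
theorem diag_of_fix {c : Subgroup (S × S) → ℕ} (hc : ∀ K, c K ≠ 0 → F.Diag K) {D : Subgroup (S × S)}
    (h : mark (Orbits c) D ≠ 0) : F.Diag D := by
  rw [mark_orbits] at h
  obtain ⟨K, hK⟩ : ∃ K, c K * mark (H := S × S) ((S × S) ⧸ K) D ≠ 0 := by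
    by_contra hcon
    push Not at hcon
    exact h (finsum_eq_zero_of_forall_eq_zero hcon)
  simp only [mul_ne_zero_iff] at hK
  obtain ⟨g, hg⟩ := mark_ne_zero hK.2
  refine ((hc K hK.1).conj g).mono fun d hd => ⟨g⁻¹ * d * g, hg d hd, ?_⟩
  simp [mul_assoc]

/-- An orbit sum over diagonals, containing the identity orbit, with left stable fixed point counts. -/
theorem exists_left_stable (F : FusionSystem S) :
    ∃ c : Subgroup (S × S) → ℕ, (∀ K, c K ≠ 0 → F.Diag K) ∧ c (idDiag S) ≠ 0 ∧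
      StableFrom F.Twisted {D | F.Diag D} c 0 := by
  classical
  suffices h : ∀ j, ∃ c : Subgroup (S × S) → ℕ, (∀ K, c K ≠ 0 → F.Diag K) ∧ c (idDiag S) ≠ 0 ∧
      StableFrom F.Twisted {D | F.Diag D} c (Nat.card (S × S) + 1 - j) by
    obtain ⟨c, h1, h2, h3⟩ := h (Nat.card (S × S) + 1)
    rw [Nat.sub_self] at h3
    exact ⟨c, h1, h2, h3⟩
  intro j
  induction j with
  | zero =>
    refine ⟨fun K => if K = idDiag S then 1 else 0, fun K hK => ?_, by simp, fun D D' _ _ h => ?_⟩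
    · simp only [ne_eq, ite_eq_right_iff, one_ne_zero, imp_false, not_not] at hK
      exact hK ▸ diag_idDiag
    · have := Subgroup.card_le_card_group D
      omega
  | succ j ih =>
    obtain ⟨c, h1, h2, h3⟩ := ih
    rcases Nat.eq_zero_or_pos (Nat.card (S × S) + 1 - j) with h0 | hpos
    · exact ⟨c, h1, h2, by rwa [show Nat.card (S × S) + 1 - (j + 1) = Nat.card (S × S) + 1 - j by omega]⟩
    set n := Nat.card (S × S) + 1 - (j + 1) with hn
    have hn1 : Nat.card (S × S) + 1 - j = n + 1 := by omega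
    rw [hn1] at h3
    set M := Nat.card (S × S)
    have hscale : ∀ D : Subgroup (S × S), mark (Orbits fun K => M * c K) D = M * mark (Orbits c) D := by
      intro D
      rw [mark_orbits, mark_orbits, mul_finsum' _ _ (Set.toFinite _)]
      exact finsum_congr fun K => mul_assoc _ _ _
    have hst : StableFrom F.Twisted {D | F.Diag D} (fun K => M * c K) (n + 1) := by
      intro D D' hR hD hcard
      rw [hscale, hscale, h3 D D' hR hD hcard]
    obtain ⟨c', hle, heq, hst'⟩ := exists_step F.Twisted {D | F.Diag D} twisted_equivalence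
      (fun _ _ h => h.card_eq) (fun D g _ => twisted_conj g) (fun _ _ h hD => Diag.twisted hD h)
      (fun K => M * c K) n hst (by
        intro D _ _
        haveI := Fintype.ofFinite (Subgroup (S × S))
        refine ⟨∑ E : Subgroup (S × S), mark (Orbits fun K => M * c K) E, fun D' _ => ⟨?_, ?_⟩⟩
        · exact Finset.single_le_sum (f := fun E => mark (Orbits fun K => M * c K) E)
            (fun _ _ => Nat.zero_le _) (Finset.mem_univ D')
        · refine (mark_self_dvd D').trans (Nat.dvd_sub ?_ ?_)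
          · exact Finset.dvd_sum fun E _ => by rw [hscale]; exact dvd_mul_right _ _
          · rw [hscale]
            exact dvd_mul_right _ _)
    refine ⟨c', fun K hK => ?_, ?_, hst'⟩
    · by_contra hKd
      rw [heq K (Or.inl hKd)] at hK
      exact hKd (h1 K (right_ne_zero_of_mul hK))
    · have : 0 < M * c (idDiag S) := Nat.mul_pos Nat.card_pos (Nat.pos_of_ne_zero h2)
      have := hle (idDiag S)
      omega

end Cfsg.FusionSystem
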