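import Mathlib.GroupTheory.GroupAction.SubMulAction
import Mathlib.GroupTheory.GroupAction.Quotient
import Mathlib.SetTheory.Cardinal.Finite
import Mathlib.GroupTheory.Index
import Mathlib.Algebra.BigOperators.Finprod

/-!
Fixed-point counts of finite sets with a group action: they determine the set, and orbit sums can be
completed so that they become constant on given classes of subgroups.
-/

set_option autoImplicit false

namespace CfsgLib.Marks

universe u v w

variable {H : Type u} [Group H]

/-- The number of points fixed by a subgroup. -/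
noncomputable def mark (X : Type v) [MulAction H X] (D : Subgroup H) : ℕ :=
  Nat.card {x : X // ∀ d ∈ D, d • x = x}

theorem mark_bot (X : Type v) [MulAction H X] : mark X (⊥ : Subgroup H) = Nat.card X := by
  refine Nat.card_congr (Equiv.subtypeUnivEquiv fun x d hd => ?_)
  rw [Subgroup.mem_bot.mp hd, one_smul]

theorem mark_congr {X : Type v} {Y : Type w} [MulAction H X] [MulAction H Y] (e : X ≃ Y)
    (he : ∀ (h : H) x, e (h • x) = h • e x) (D : Subgroup H) : mark X D = mark Y D := by
  refine Nat.card_congr (e.subtypeEquiv fun x => ⟨fun h d hd => by rw [← he, h d hd], fun h d hd => ?_⟩)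
  exact e.injective (by rw [he]; exact h d hd)

theorem le_stabilizer_iff {X : Type v} [MulAction H X] (D : Subgroup H) (x : X) :
    D ≤ MulAction.stabilizer H x ↔ ∀ d ∈ D, d • x = x :=
  ⟨fun h d hd => MulAction.mem_stabilizer_iff.mp (h hd), fun h d hd => MulAction.mem_stabilizer_iff.mpr (h d hd)⟩

/-- A part of the set closed under the action. -/
def restrict {X : Type v} [MulAction H X] (s : Set X) (hs : ∀ (h : H), ∀ x ∈ s, h • x ∈ s) :
    SubMulAction H X where
  carrier := s
  smul_mem' h x hx := hs h x hx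

theorem mark_split {X : Type v} [MulAction H X] [Finite X] (s : Set X)
    (hs : ∀ (h : H), ∀ x ∈ s, h • x ∈ s) (hs' : ∀ (h : H), ∀ x ∈ sᶜ, h • x ∈ sᶜ) (D : Subgroup H) :
    mark X D = mark (restrict s hs) D + mark (restrict sᶜ hs') D := by
  classical
  have e : {x : X // ∀ d ∈ D, d • x = x} ≃
      {x : restrict s hs // ∀ d ∈ D, d • x = x} ⊕ {x : restrict sᶜ hs' // ∀ d ∈ D, d • x = x} :=
    { toFun := fun x => if h : (x : X) ∈ s then Sum.inl ⟨⟨x, h⟩, fun d hd => Subtype.ext (x.2 d hd)⟩
        else Sum.inr ⟨⟨x, h⟩, fun d hd => Subtype.ext (x.2 d hd)⟩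
      invFun := fun y => y.elim (fun a => ⟨a.1.1, fun d hd => congrArg Subtype.val (a.2 d hd)⟩)
        (fun a => ⟨a.1.1, fun d hd => congrArg Subtype.val (a.2 d hd)⟩)
      left_inv := fun x => by
        dsimp only
        split_ifs <;> rfl
      right_inv := fun y => by
        rcases y with ⟨⟨a, ha⟩, h⟩ | ⟨⟨a, ha⟩, h⟩
        · exact dif_pos ha
        · exact dif_neg ha }
  rw [mark, Nat.card_congr e, Nat.card_sum]
  rfl

theorem smul_mem_iff {X : Type v} [MulAction H X] {x a : X} (h : H) :
    h • a ∈ MulAction.orbit H x ↔ a ∈ MulAction.orbit H x := by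
  rw [← MulAction.orbit_eq_iff, ← MulAction.orbit_eq_iff, MulAction.orbit_smul]

/-- Fixed-point counts determine a finite set with an action of a group. -/
theorem exists_equiv_of_marks {X : Type v} {Y : Type w} [MulAction H X] [MulAction H Y] [Finite X] [Finite Y]
    (hm : ∀ D : Subgroup H, mark X D = mark Y D) : ∃ e : X ≃ Y, ∀ (h : H) x, e (h • x) = h • e x := by
  classical
  induction hn : Nat.card X using Nat.strong_induction_on generalizing X Y with
  | h n ih =>
    subst hn
    rcases isEmpty_or_nonempty X with hX | hX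
    · have h0 : Nat.card Y = 0 := by
        rw [← mark_bot (H := H) Y, ← hm, mark_bot, Nat.card_of_isEmpty]
      haveI : IsEmpty Y := ((Nat.card_eq_zero).mp h0).resolve_right (not_infinite_iff_finite.mpr inferInstance)
      exact ⟨Equiv.equivOfIsEmpty X Y, fun h x => (IsEmpty.false x).elim⟩
    obtain ⟨K, ⟨⟨x, hx⟩, hKmax⟩⟩ := ((Set.finite_range fun x : X => MulAction.stabilizer H x).exists_maximal
      (Set.range_nonempty _))
    obtain ⟨y, hy⟩ : ∃ y : Y, MulAction.stabilizer H y = K := by
      have h1 : 0 < mark Y K := by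
        rw [← hm]
        exact Nat.card_pos_iff.mpr ⟨⟨⟨x, (le_stabilizer_iff K x).mp hx.ge⟩⟩, inferInstance⟩
      obtain ⟨⟨⟨y, hy⟩⟩, -⟩ := Nat.card_pos_iff.mp h1
      refine ⟨y, le_antisymm ?_ ((le_stabilizer_iff K y).mpr hy)⟩
      have h2 : 0 < mark X (MulAction.stabilizer H y) := by
        rw [hm]
        exact Nat.card_pos_iff.mpr ⟨⟨⟨y, fun d hd => hd⟩⟩, inferInstance⟩
      obtain ⟨⟨⟨x', hx'⟩⟩, -⟩ := Nat.card_pos_iff.mp h2
      have h3 := (le_stabilizer_iff _ x').mpr hx'
      exact h3.trans (hKmax ⟨x', rfl⟩ (le_trans ((le_stabilizer_iff K y).mpr hy) h3))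
    have hcl : ∀ {Z : Type v} [MulAction H Z] (z : Z) (h : H), ∀ a ∈ MulAction.orbit H z,
        h • a ∈ MulAction.orbit H z := fun z h a ha => (smul_mem_iff h).mpr ha
    have hclX' : ∀ (h : H), ∀ a ∈ (MulAction.orbit H x)ᶜ, h • a ∈ (MulAction.orbit H x)ᶜ :=
      fun h a ha hb => ha ((smul_mem_iff h).mp hb)
    have hclY : ∀ (h : H), ∀ a ∈ MulAction.orbit H y, h • a ∈ MulAction.orbit H y :=
      fun h a ha => (smul_mem_iff h).mpr ha
    have hclY' : ∀ (h : H), ∀ a ∈ (MulAction.orbit H y)ᶜ, h • a ∈ (MulAction.orbit H y)ᶜ :=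
      fun h a ha hb => ha ((smul_mem_iff h).mp hb)
    -- the two orbits
    obtain ⟨eo, heo⟩ : ∃ eo : restrict (MulAction.orbit H x) (hcl x) ≃ restrict (MulAction.orbit H y) hclY,
        ∀ (h : H) a, eo (h • a) = h • eo a := by
      let ex := MulAction.orbitEquivQuotientStabilizer H x
      let ey := MulAction.orbitEquivQuotientStabilizer H y
      let q : H ⧸ MulAction.stabilizer H x ≃ H ⧸ MulAction.stabilizer H y :=
        Subgroup.quotientEquivOfEq (hx.trans hy.symm)
      refine ⟨ex.trans (q.trans ey.symm), fun h a => ?_⟩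
      obtain ⟨g, hg⟩ := a.2
      have key : ∀ (k : H) (hk : k • x ∈ MulAction.orbit H x),
          ((ex.trans (q.trans ey.symm)) ⟨k • x, hk⟩ : Y) = k • y := by
        intro k hk
        have h1 : ex ⟨k • x, hk⟩ = (QuotientGroup.mk k : H ⧸ MulAction.stabilizer H x) := by
          apply ex.symm.injective
          rw [ex.symm_apply_apply]
          exact Subtype.ext (MulAction.orbitEquivQuotientStabilizer_symm_apply H x k).symm
        simp only [Equiv.trans_apply, h1]
        exact MulAction.orbitEquivQuotientStabilizer_symm_apply H y k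
      refine Subtype.ext ?_
      have ha : a = ⟨g • x, ⟨g, rfl⟩⟩ := Subtype.ext hg.symm
      rw [ha]
      show ((ex.trans (q.trans ey.symm)) ⟨h • g • x, _⟩ : Y) = h • ((ex.trans (q.trans ey.symm)) ⟨g • x, _⟩ : Y)
      refine (congrArg (fun z => ((ex.trans (q.trans ey.symm)) z : Y))
        (Subtype.ext (mul_smul h g x).symm : (⟨h • g • x, (smul_mem_iff h).mpr ⟨g, rfl⟩⟩ :
          restrict (MulAction.orbit H x) (hcl x)) = ⟨(h * g) • x, ⟨h * g, rfl⟩⟩)).trans ?_
      rw [key g ⟨g, rfl⟩]
      exact (key (h * g) ⟨h * g, rfl⟩).trans (mul_smul h g y)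
    obtain ⟨er, her⟩ : ∃ er : restrict (MulAction.orbit H x)ᶜ hclX' ≃ restrict (MulAction.orbit H y)ᶜ hclY',
        ∀ (h : H) a, er (h • a) = h • er a := by
      refine ih _ ?_ (fun D => ?_) rfl
      · exact Finite.card_subtype_lt (p := fun a => a ∈ (MulAction.orbit H x)ᶜ)
          (x := x) (fun h => h (MulAction.mem_orbit_self x))
      · have h1 := hm D
        rw [mark_split _ (hcl x) hclX', mark_split _ hclY hclY', mark_congr eo heo] at h1
        omega
    refine ⟨(Equiv.Set.sumCompl (MulAction.orbit H x)).symm.trans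
      ((Equiv.sumCongr eo er).trans (Equiv.Set.sumCompl (MulAction.orbit H y))), fun h a => ?_⟩
    by_cases ha : a ∈ MulAction.orbit H x
    · show Equiv.Set.sumCompl (MulAction.orbit H y)
          (Equiv.sumCongr eo er ((Equiv.Set.sumCompl (MulAction.orbit H x)).symm (h • a))) =
        h • Equiv.Set.sumCompl (MulAction.orbit H y)
          (Equiv.sumCongr eo er ((Equiv.Set.sumCompl (MulAction.orbit H x)).symm a))
      rw [Equiv.Set.sumCompl_symm_apply_of_mem ha,
        Equiv.Set.sumCompl_symm_apply_of_mem (hcl x h a ha)]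
      exact congrArg Subtype.val (heo h ⟨a, ha⟩)
    · show Equiv.Set.sumCompl (MulAction.orbit H y)
          (Equiv.sumCongr eo er ((Equiv.Set.sumCompl (MulAction.orbit H x)).symm (h • a))) =
        h • Equiv.Set.sumCompl (MulAction.orbit H y)
          (Equiv.sumCongr eo er ((Equiv.Set.sumCompl (MulAction.orbit H x)).symm a))
      rw [Equiv.Set.sumCompl_symm_apply_of_notMem ha,
        Equiv.Set.sumCompl_symm_apply_of_notMem (hclX' h a ha)]
      exact congrArg Subtype.val (her h ⟨a, ha⟩)

end CfsgLib.Marks
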